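import Cfsg.Agent.Lib.Helper3.PF12.Congruence
import Cfsg.Agent.Lib.Helper3.CharCore
import Cfsg.Agent.Lib.Helper15.LinChar
import Cfsg.Agent.Lib.Helper80.PrimeCodeg

/-!
# PF12: the congruence package, character form

`congruence_char` is `congruence` of `Congruence.lean` restated for a linear irreducible
character `θ₁ : H → ℂ` (instead of a homomorphism) and irreducible characters of
`F = H ⊔ ⟨u⟩` (instead of homomorphisms) in the hypotheses.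
-/

set_option autoImplicit false

namespace Cfsg.Agent.Lib.Helper3.PF12

open Cfsg

universe u

theorem congruence_char {L : Type u} [Group L] [Finite L] (H : Subgroup L) [hn : H.Normal] (u : L)
    (p : ℕ) (hp : p.Prime) (hu : orderOf u = p) (hcop : Nat.Coprime p (Nat.card H))
    (F : Subgroup L) (hF : F = H ⊔ Subgroup.zpowers u) [Fintype ↥H] [Fintype ↥F]
    (θ₁ : H → ℂ) (hθ₁ : IsIrrCharacter H θ₁) (hlin : θ₁ 1 = 1)
    (hinv : ∀ h : H, θ₁ ⟨u * h * u⁻¹, hn.conj_mem h h.2 u⟩ = θ₁ h) (ρ : L → ℂ) (z : ℕ → ℂ)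
    (e : ℤ) (γ : ℂ) (hz0 : z 0 = e)
    (hzint : ∀ ω : ℂ, ω ^ p = 1 → ∃ m : ℤ, ∑ i ∈ Finset.range p, z i * ω ^ i = p * m)
    (hX2 : ∀ i, 0 < i → i < p → ∑ h : H, ρ (u ^ i * h) = (Nat.card H : ℂ) * (z i + γ))
    (hX1 : ∀ χ χ' : F → ℂ, IsIrrCharacter F χ → IsIrrCharacter F χ' →
      (∀ h : H, ∀ hh : (h : L) ∈ F, χ ⟨h, hh⟩ = θ₁ h) →
      (∀ h : H, ∀ hh : (h : L) ∈ F, χ' ⟨h, hh⟩ = θ₁ h) →
      classInner (fun x : F => ρ x) χ = classInner (fun x : F => ρ x) χ')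
    (hX3 : ∀ χ ν : F → ℂ, IsIrrCharacter F χ → IsIrrCharacter F ν →
      (∀ h : H, ∀ hh : (h : L) ∈ F, χ ⟨h, hh⟩ = θ₁ h) →
      (∀ h : H, ∀ hh : (h : L) ∈ F, ν ⟨h, hh⟩ = 1) →
      ∃ m : ℤ, classInner (fun x : F => ρ x) χ - classInner (fun x : F => ρ x) ν = m) :
    ∃ g c : ℤ, γ = g ∧
      classInner (fun h : H => ρ h) (fun _ => 1) - classInner (fun h : H => ρ h) θ₁ = c ∧
      (p : ℤ) ∣ c - e - g := by
  subst hF
  have hch := Cfsg.Agent.Lib.Helper3.isCharacter_of_irr hθ₁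
  set lam : H →* ℂˣ := Cfsg.Agent.Lib.Helper15.linCharHom hch hlin with hlamdef
  have hlam : ∀ h : H, ((lam h : ℂˣ) : ℂ) = θ₁ h :=
    fun h => Cfsg.Agent.Lib.Helper15.linCharHom_apply hch hlin h
  have huH : u ∉ H := by
    intro h
    have h1 : orderOf u ∣ Nat.card H := Subgroup.orderOf_dvd_natCard H h
    rw [hu] at h1
    exact hp.ne_one (Nat.Coprime.eq_one_of_dvd hcop h1)
  have hinv' : ∀ h : H, lam ⟨u * h * u⁻¹, hn.conj_mem h h.2 u⟩ = lam h := by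
    intro h
    apply Units.ext
    rw [hlam, hlam]
    exact hinv h
  have hX1' : ∀ φ φ' : ↥(H ⊔ Subgroup.zpowers u) →* ℂˣ,
      (∀ (h : L) (hh : h ∈ H), φ ⟨h, Subgroup.mem_sup_left hh⟩ = lam ⟨h, hh⟩) →
      (∀ (h : L) (hh : h ∈ H), φ' ⟨h, Subgroup.mem_sup_left hh⟩ = lam ⟨h, hh⟩) →
      Cfsg.classInner (fun x : ↥(H ⊔ Subgroup.zpowers u) => ρ x) (fun x => ((φ x : ℂˣ) : ℂ)) =
        Cfsg.classInner (fun x : ↥(H ⊔ Subgroup.zpowers u) => ρ x)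
          (fun x => ((φ' x : ℂˣ) : ℂ)) := by
    intro φ φ' hφ hφ'
    refine hX1 _ _ (Cfsg.Agent.Lib.Helper80.isIrrCharacter_of_hom φ)
      (Cfsg.Agent.Lib.Helper80.isIrrCharacter_of_hom φ') ?_ ?_
    · intro h hh
      have h1 := hφ (h : L) h.2
      show ((φ ⟨(h : L), hh⟩ : ℂˣ) : ℂ) = θ₁ h
      rw [h1]
      exact hlam h
    · intro h hh
      have h1 := hφ' (h : L) h.2
      show ((φ' ⟨(h : L), hh⟩ : ℂˣ) : ℂ) = θ₁ h
      rw [h1]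
      exact hlam h
  have hX3' : ∀ φ ν : ↥(H ⊔ Subgroup.zpowers u) →* ℂˣ,
      (∀ (h : L) (hh : h ∈ H), φ ⟨h, Subgroup.mem_sup_left hh⟩ = lam ⟨h, hh⟩) →
      (∀ (h : L) (hh : h ∈ H), ν ⟨h, Subgroup.mem_sup_left hh⟩ = 1) →
      ∃ m : ℤ, Cfsg.classInner (fun x : ↥(H ⊔ Subgroup.zpowers u) => ρ x)
        (fun x => ((φ x : ℂˣ) : ℂ) - ((ν x : ℂˣ) : ℂ)) = m := by
    intro φ ν hφ hν
    obtain ⟨m, hm⟩ := hX3 _ _ (Cfsg.Agent.Lib.Helper80.isIrrCharacter_of_hom φ)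
      (Cfsg.Agent.Lib.Helper80.isIrrCharacter_of_hom ν) (by
        intro h hh
        have h1 := hφ (h : L) h.2
        show ((φ ⟨(h : L), hh⟩ : ℂˣ) : ℂ) = θ₁ h
        rw [h1]
        exact hlam h) (by
        intro h hh
        have h1 := hν (h : L) h.2
        show ((ν ⟨(h : L), hh⟩ : ℂˣ) : ℂ) = 1
        rw [h1]
        rfl)
    refine ⟨m, ?_⟩
    rw [classInner_sub_right]
    exact hm
  obtain ⟨⟨g, hg⟩, m, hm⟩ := congruence H u hp hu huH ρ lam hinv' z γ hX1' hX3' hX2 hzint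
  have hfun : (fun h : H => ((lam h : ℂˣ) : ℂ)) = θ₁ := funext hlam
  rw [hfun] at hm
  refine ⟨g, e + g + p * m, hg, ?_, ⟨m, by ring⟩⟩
  rw [hm, hz0, hg]
  push_cast
  ring

end Cfsg.Agent.Lib.Helper3.PF12
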