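import Mathlib
import Cfsg.Prelude.Def_Characters
import Cfsg.Agent.Lib.Helper3.CopConj

/-!
# PF12, package (X2): coset sums as centraliser-coset averages

For a class function `χ` of `G`, a subgroup `L`, a normal subgroup `H` of `L` and an element
`a ∈ L` of order coprime to `|H|`: the sum of `χ` over the coset `a H` is `|H|` times the average
of `χ` over `a C_H(a)`.
-/

set_option autoImplicit false

namespace Cfsg.Agent.Lib.Helper3.PF12

open Cfsg

universe u

variable {G : Type u} [Group G]

theorem finsum_mem_subgroup_eq_sum [Fintype G] (S : Subgroup G) (f : G → ℂ) [DecidablePred (· ∈ S)] :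
    ∑ᶠ r ∈ (S : Set G), f r = ∑ r : G, if r ∈ S then f r else 0 := by
  classical
  rw [finsum_mem_eq_finite_toFinset_sum _ (Set.toFinite _), ← Finset.sum_filter]
  apply Finset.sum_congr
  · ext x
    simp
  · intro x _
    rfl

theorem map_subtype_mem_normalizer (L : Subgroup G) (H : Subgroup L) [hN : H.Normal] (a : L) :
    (a : G) ∈ Subgroup.normalizer ((H.map L.subtype : Subgroup G) : Set G) := by
  rw [Subgroup.mem_normalizer_iff]
  intro g
  constructor
  · rintro ⟨h, hh, rfl⟩
    exact ⟨a * h * a⁻¹, hN.conj_mem h hh a, by simp⟩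
  · rintro ⟨h, hh, e⟩
    refine ⟨a⁻¹ * h * a, ?_, ?_⟩
    · have := hN.conj_mem h hh a⁻¹
      simpa using this
    · have e' : ((h : L) : G) = (a : G) * g * (a : G)⁻¹ := e
      simp only [Subgroup.coe_subtype, Subgroup.coe_mul, Subgroup.coe_inv, e']
      group

/-- **Package (X2).** -/
theorem sum_coset_eq_card_mul_avg [Fintype G] (L : Subgroup G) (H : Subgroup L) [hN : H.Normal]
    [Fintype H] (a : L) (hcop : (orderOf a).Coprime (Nat.card H)) (χ : G → ℂ)
    (hχ : IsClassFunction G χ) :
    ∑ h : H, χ ((a : G) * ((h : L) : G)) =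
      (Nat.card H : ℂ) *
        ((Nat.card ↥((H.map L.subtype) ⊓ Subgroup.centralizer {(a : G)}) : ℂ)⁻¹ *
          ∑ᶠ r ∈ (((H.map L.subtype) ⊓ Subgroup.centralizer {(a : G)} : Subgroup G) : Set G),
            χ ((a : G) * r)) := by
  classical
  set HG : Subgroup G := H.map L.subtype with hHG
  have hcardHG : Nat.card HG = Nat.card H :=
    Nat.card_congr (H.equivMapOfInjective L.subtype L.subtype_injective).symm.toEquiv
  have hord : orderOf (a : G) = orderOf a := Subgroup.orderOf_coe a
  have hcop' : (orderOf (a : G)).Coprime (Nat.card HG) := by rw [hord, hcardHG]; exact hcop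
  have hnorm := map_subtype_mem_normalizer L H a
  have hF : ∀ g x : G, χ (x * g * x⁻¹) = χ g := fun g x => hχ g x
  have key := Cfsg.Agent.Lib.Helper3.CopConj.sum_coset_eq HG (a : G) hnorm hcop' χ hF
  set C : Subgroup G := HG ⊓ Subgroup.centralizer {(a : G)} with hC
  have hC0 : (Nat.card C : ℂ) ≠ 0 := by exact_mod_cast Nat.card_pos.ne'
  -- left side
  have hL : ∑ h : H, χ ((a : G) * ((h : L) : G)) =
      ∑ g : G, (if g ∈ HG then χ (g * (a : G)) else 0) := by
    have h1 : ∀ g : G, χ (g * (a : G)) = χ ((a : G) * g) := by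
      intro g
      have := hχ (g * (a : G)) (a : G)
      rw [← this]
      congr 1
      group
    rw [← Finset.sum_filter,
      Finset.sum_subtype (p := fun g => g ∈ HG) (Finset.univ.filter (· ∈ HG)) (by simp)
        (fun g => χ (g * (a : G))),
      ← Equiv.sum_comp (H.equivMapOfInjective L.subtype L.subtype_injective).toEquiv]
    refine Finset.sum_congr rfl (fun h _ => ?_)
    rw [h1]
    rfl
  -- right side
  have hR : ∑ᶠ r ∈ (C : Set G), χ ((a : G) * r) =
      ∑ g : G, (if g ∈ C then χ (g * (a : G)) else 0) := by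
    rw [finsum_mem_subgroup_eq_sum]
    refine Finset.sum_congr rfl (fun g _ => ?_)
    by_cases hg : g ∈ C
    · rw [if_pos hg, if_pos hg]
      have hcomm : g * (a : G) = (a : G) * g := by
        have h2 : g ∈ Subgroup.centralizer {(a : G)} := hg.2
        rw [Subgroup.mem_centralizer_iff] at h2
        exact (h2 (a : G) rfl).symm
      rw [hcomm]
    · rw [if_neg hg, if_neg hg]
  rw [hL, hR, ← hcardHG]
  have hkey2 : ∑ g : G, (if g ∈ HG then χ (g * (a : G)) else 0) =
      (Nat.card C : ℂ)⁻¹ * ((Nat.card HG : ℂ) *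
        ∑ g : G, (if g ∈ C then χ (g * (a : G)) else 0)) := by
    rw [← key, ← mul_assoc, inv_mul_cancel₀ hC0, one_mul]
  rw [hkey2]
  ring

end Cfsg.Agent.Lib.Helper3.PF12
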